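import Groth.Prelude.Def_W4bk4bump814p2PDiff
import Mathlib.RingTheory.Kaehler.Polynomial
import Mathlib.RingTheory.WittVector.Teichmuller
import Mathlib.FieldTheory.Perfect
import Mathlib.Algebra.CharP.Algebra

namespace Groth.Agent.PDiffLib

open W4bk4bump814p2 Finset MvPolynomial

universe u v

variable (p : ℕ) [Fact p.Prime]

theorem pow_add_pow_witt {R : Type*} [CommRing R] (a b : R) (n : ℕ) :
    a ^ p ^ n + b ^ p ^ n = ∑ j ∈ range (n + 1),
      (p : R) ^ j * ((WittVector.teichmuller p a + WittVector.teichmuller p b).coeff j) ^ p ^ (n - j) := by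
  have h := WittVector.ghostComponent_apply (p := p) n
    (WittVector.teichmuller p a + WittVector.teichmuller p b)
  rw [map_add, WittVector.ghostComponent_teichmuller, WittVector.ghostComponent_teichmuller,
    wittPolynomial_eq_sum_C_mul_X_pow] at h
  rw [h]
  simp

theorem D_pow_pow {R : Type*} [CommRing R] (a : R) (j m : ℕ) :
    KaehlerDifferential.D ℤ R ((p : R) ^ j * a ^ p ^ m) = (p ^ (j + m) : ℕ) • delta ℤ R p m a := by
  rw [← Nat.cast_pow, ← nsmul_eq_mul, map_nsmul, Derivation.leibniz_pow, ← mul_smul, ← pow_add]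
  rfl

theorem delta_add_delta_universal (i : ℕ) :
    let P := MvPolynomial (Fin 2) ℤ
    ∃ c : ℕ → P, c 0 = X 0 + X 1 ∧
    delta ℤ P p i (X 0) + delta ℤ P p i (X 1) =
      ∑ j ∈ range (i + 1), delta ℤ P p (i - j) (c j) := by
  intro P
  refine ⟨(WittVector.teichmuller p (X 0 : P) + WittVector.teichmuller p (X 1 : P)).coeff, ?_, ?_⟩
  · rw [WittVector.add_coeff_zero, WittVector.teichmuller_coeff_zero, WittVector.teichmuller_coeff_zero]
  · have h := congr_arg (KaehlerDifferential.D ℤ P)
      (pow_add_pow_witt p (X 0 : P) (X 1) i)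
    have h0 : ∀ x : P, KaehlerDifferential.D ℤ P (x ^ p ^ i) = (p ^ i : ℕ) • delta ℤ P p i x := fun x => by
      have := D_pow_pow p x 0 i
      rwa [pow_zero, one_mul, Nat.zero_add] at this
    rw [map_add, map_sum, h0, h0, ← smul_add] at h
    have hsum := h.trans (Finset.sum_congr rfl (g := fun j => (p ^ i : ℕ) • delta ℤ P p (i - j)
        ((WittVector.teichmuller p (X 0 : P) + WittVector.teichmuller p (X 1 : P)).coeff j))
      fun j hj => by
        refine (D_pow_pow p _ j (i - j)).trans ?_
        rw [Nat.add_sub_cancel' (Nat.lt_succ_iff.mp (mem_range.mp hj))]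
        all_goals rfl)
    rw [← Finset.smul_sum] at hsum
    apply (KaehlerDifferential.mvPolynomialBasis ℤ (Fin 2)).repr.injective
    refine Finsupp.ext fun k => ?_
    have := DFunLike.congr_fun (congr_arg (KaehlerDifferential.mvPolynomialBasis ℤ (Fin 2)).repr hsum) k
    rw [map_nsmul, map_nsmul, Finsupp.smul_apply, Finsupp.smul_apply, nsmul_eq_mul, nsmul_eq_mul] at this
    exact mul_left_cancel₀ (Nat.cast_ne_zero.mpr (pow_ne_zero _ (Fact.out : p.Prime).ne_zero)) this

variable (K : Type u) (A : Type v) [CommRing K] [CommRing A] [Algebra K A]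

theorem delta_add_delta (i : ℕ) (x y : A) :
    ∃ c : ℕ → A, c 0 = x + y ∧
      delta K A p i x + delta K A p i y = ∑ j ∈ range (i + 1), delta K A p (i - j) (c j) := by
  obtain ⟨c, hc0, hc⟩ := delta_add_delta_universal p i
  letI : Algebra (MvPolynomial (Fin 2) ℤ) A := (aeval ![x, y]).toRingHom.toAlgebra
  refine ⟨fun j => algebraMap _ A (c j), ?_, ?_⟩
  · simp [hc0, RingHom.algebraMap_toAlgebra]
  · have hδ : ∀ (m : ℕ) (f : MvPolynomial (Fin 2) ℤ),
        KaehlerDifferential.map ℤ K (MvPolynomial (Fin 2) ℤ) A (delta ℤ _ p m f) =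
          delta K A p m (algebraMap _ A f) := fun m f => by
      rw [delta, map_smul, KaehlerDifferential.map_D, delta, algebra_compatible_smul A, map_pow]
    have h := congr_arg (KaehlerDifferential.map ℤ K (MvPolynomial (Fin 2) ℤ) A) hc
    rw [map_add, map_sum, hδ, hδ] at h
    simp only [hδ] at h
    simpa [RingHom.algebraMap_toAlgebra] using h

/-- The additive subgroup generated by `δ_j`, `j < i`. -/
noncomputable def H (i : ℕ) : AddSubgroup (Ω[A⁄K]) :=
  AddSubgroup.closure (⋃ j ∈ Finset.range i, Set.range (delta K A p j))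

theorem delta_mem_H {i j : ℕ} (h : j < i) (x : A) : delta K A p j x ∈ H p K A i :=
  AddSubgroup.subset_closure (Set.mem_biUnion (mem_range.mpr h) ⟨x, rfl⟩)

theorem H_mono {i j : ℕ} (h : i ≤ j) : H p K A i ≤ H p K A j :=
  AddSubgroup.closure_mono (Set.biUnion_subset_biUnion_left fun _ hk =>
    mem_range.mpr (lt_of_lt_of_le (mem_range.mp hk) h))

theorem defect_mem_H (i : ℕ) (x y : A) :
    delta K A p i (x + y) - delta K A p i x - delta K A p i y ∈ H p K A i := by
  obtain ⟨c, hc0, hc⟩ := delta_add_delta p K A i x y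
  rw [Finset.sum_range_succ', Nat.sub_zero, hc0] at hc
  have : delta K A p i (x + y) - delta K A p i x - delta K A p i y =
      -∑ j ∈ range i, delta K A p (i - (j + 1)) (c (j + 1)) := by
    rw [sub_sub, hc]; abel
  rw [this]
  exact neg_mem (sum_mem fun j hj => delta_mem_H p K A (by have := mem_range.mp hj; omega) _)

variable [CharP K p]

theorem delta_neg (i : ℕ) (x : A) : delta K A p i (-x) = -delta K A p i x := by
  rcases subsingleton_or_nontrivial A with hA | hA
  · have : Subsingleton (Ω[A⁄K]) := Module.subsingleton A _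
    exact Subsingleton.elim _ _
  have : CharP A p := by
    obtain ⟨q, hq⟩ := CharP.exists A
    have hdvd : q ∣ p := (CharP.cast_eq_zero_iff A q p).mp
      (by rw [← map_natCast (algebraMap K A), CharP.cast_eq_zero, map_zero])
    rcases (Nat.dvd_prime (Fact.out : p.Prime)).mp hdvd with rfl | rfl
    · exact absurd rfl (CharP.char_ne_one A 1)
    · exact hq
  have h1 : (-1 : A) ^ p ^ i = -1 := by
    rw [← iterateFrobenius_def, map_neg, map_one]
  have h2 : (-1 : A) ^ (p ^ i - 1) = 1 := by
    have h3 : (-1 : A) ^ (p ^ i - 1) * (-1) = -1 := by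
      rw [← pow_succ, Nat.sub_add_cancel (Nat.one_le_pow _ _ (Fact.out : p.Prime).pos)]
      exact h1
    simpa using h3
  rw [delta, delta, neg_pow, h2, one_mul, map_neg, smul_neg]

theorem sigma_eq_H : ∀ i : ℕ, sigma K A p i = (H p K A i : Set (Ω[A⁄K]))
  | 0 => by simp [H]
  | i + 1 => by
    have ih := sigma_eq_H i
    let T : AddSubgroup (Ω[A⁄K]) :=
      { carrier := {ω | ∃ x : A, ω - delta K A p i x ∈ H p K A i}
        zero_mem' := ⟨0, by simp [delta]⟩
        add_mem' := by
          rintro a b ⟨x, hx⟩ ⟨y, hy⟩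
          refine ⟨x + y, ?_⟩
          have := sub_mem (add_mem hx hy) (defect_mem_H p K A i x y)
          convert this using 1
          abel
        neg_mem' := by
          rintro a ⟨x, hx⟩
          refine ⟨-x, ?_⟩
          have := neg_mem hx
          rw [delta_neg]
          convert this using 1
          abel }
    suffices T = H p K A (i + 1) by
      rw [sigma_succ, ih]
      exact congr_arg SetLike.coe this
    apply le_antisymm
    · rintro ω ⟨x, hx⟩
      simpa using add_mem (H_mono p K A (Nat.le_succ i) hx) (delta_mem_H p K A (Nat.lt_succ_self i) x)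
    · refine (AddSubgroup.closure_le T).mpr ?_
      intro ω hω
      obtain ⟨j, hj, x, rfl⟩ := Set.mem_iUnion₂.mp hω
      rcases Nat.lt_succ_iff_lt_or_eq.mp (mem_range.mp hj) with hlt | rfl
      · exact ⟨0, by simpa [delta] using delta_mem_H p K A hlt x⟩
      · exact ⟨x, by simp⟩

theorem delta_algebraMap_mul (i : ℕ) (c : K) (x : A) :
    delta K A p i (algebraMap K A c * x) = c ^ p ^ i • delta K A p i x := by
  rw [delta, delta, ← Algebra.smul_def, Derivation.map_smul, _root_.smul_pow,
    smul_comm, smul_assoc, ← mul_smul, ← pow_succ',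
    Nat.sub_add_cancel (Nat.one_le_pow _ _ (Fact.out : p.Prime).pos)]

theorem delta_pow_mul {i j : ℕ} (h : j < i) (x y : A) :
    delta K A p j (x ^ p ^ (i - j) * y) = x ^ p ^ i • delta K A p j y := by
  have hz : KaehlerDifferential.D K A (x ^ p ^ (i - j)) = 0 := by
    rw [Derivation.leibniz_pow]
    obtain ⟨m, hm⟩ : ∃ m, i - j = m + 1 := ⟨i - j - 1, by omega⟩
    rw [hm, pow_succ', mul_nsmul', ← Nat.cast_smul_eq_nsmul K p, CharP.cast_eq_zero, zero_smul]
  rw [delta, delta, Derivation.leibniz, hz, smul_zero, add_zero, mul_pow, ← mul_smul, ← mul_smul]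
  congr 1
  rw [mul_right_comm, ← pow_succ, Nat.sub_add_cancel (Nat.one_le_pow _ _ (Fact.out : p.Prime).pos),
    ← pow_mul, ← pow_add, Nat.sub_add_cancel h.le]

theorem pow_smul_mem_H (i : ℕ) (x : A) {ω : Ω[A⁄K]} (hω : ω ∈ H p K A i) :
    x ^ p ^ i • ω ∈ H p K A i := by
  induction hω using AddSubgroup.closure_induction with
  | mem z hz =>
    obtain ⟨j, hj, y, rfl⟩ := Set.mem_iUnion₂.mp hz
    rw [← delta_pow_mul p K A (mem_range.mp hj)]
    exact delta_mem_H p K A (mem_range.mp hj) _
  | zero => rw [smul_zero]; exact zero_mem _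
  | add a b _ _ ha hb => rw [smul_add]; exact add_mem ha hb
  | neg a _ ha => rw [smul_neg]; exact neg_mem ha

theorem smul_mem_H {K : Type u} [Field K] [PerfectField K] [CharP K p] (A : Type v) [CommRing A]
    [Algebra K A] (i : ℕ) (c : K) {ω : Ω[A⁄K]} (hω : ω ∈ H p K A i) : c • ω ∈ H p K A i := by
  induction hω using AddSubgroup.closure_induction with
  | mem z hz =>
    obtain ⟨j, hj, y, rfl⟩ := Set.mem_iUnion₂.mp hz
    obtain ⟨d, hd⟩ := (iterateFrobeniusEquiv K p j).surjective c
    rw [iterateFrobeniusEquiv_def] at hd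
    rw [← hd, ← delta_algebraMap_mul]
    exact delta_mem_H p K A (mem_range.mp hj) _
  | zero => rw [smul_zero]; exact zero_mem _
  | add a b _ _ ha hb => rw [smul_add]; exact add_mem ha hb
  | neg a _ ha => rw [smul_neg]; exact neg_mem ha

end Groth.Agent.PDiffLib
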